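import Cfsg.Agent.H691.AN.Defs
import Cfsg.Agent.OddOrderCharacters.PF9.CliffGen
import Cfsg.Agent.H424.DegTools
import Cfsg.Agent.SolvableStructure.MinimalNormal

/-!
# S4766, piece B3: the section of a quasi-primitive character of a solvable group

`lam` is an irreducible quasi-primitive (all restrictions to normal subgroups homogeneous) character of the solvable
group `H`, of degree `b ≠ 1`.  `Z` is its centre, `E / Z` a minimal normal subgroup of `H / Z`.  The commutator pairing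
`E × E → ℂ`, `(a, x) ↦ k (a x a⁻¹ x⁻¹)` with `k = lam / b` has radical `Z`; so `|E / Z| = ε(1)²` for the constituent `ε`
of `lam` on `E`, and each nontrivial element of `E / Z` gives a linear character of its stabilizer which induces
irreducibly.
-/

set_option autoImplicit false

open Cfsg
open scoped ComplexConjugate commutatorElement

namespace Cfsg.Agent.H131.AN

open Cfsg.Agent.H691.AN Cfsg.Agent.Characters.Core Cfsg.Agent.OddOrderCharacters.IndRes
  Cfsg.Agent.OddOrderCharacters.NormalInduced Cfsg.Agent.OddOrderCharacters.PF9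

universe u

variable {H : Type u} [Group H]

/-- the normalized character -/
noncomputable def kf (lam : H → ℂ) (x : H) : ℂ := lam x / lam 1

/-- `z` acts as a scalar -/
def Sc (lam : H → ℂ) (z : H) : Prop := ∀ x, kf lam (z * x) = kf lam z * kf lam x

section basic

variable {lam : H → ℂ}

theorem kf_one (h1 : lam 1 ≠ 0) : kf lam 1 = 1 := div_self h1

theorem kf_conj (hc : IsClassFunction H lam) (g x : H) : kf lam (g * x * g⁻¹) = kf lam x := by
  unfold kf
  rw [show lam (g * x * g⁻¹) = lam x from hc x g]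

theorem kf_comm (hc : IsClassFunction H lam) (g x : H) : kf lam (g * x) = kf lam (x * g) := by
  have := kf_conj hc g (x * g)
  rw [← this]
  congr 1
  group

theorem Sc.inv_mul (h1 : lam 1 ≠ 0) {z : H} (hz : Sc lam z) : kf lam z * kf lam z⁻¹ = 1 := by
  rw [← hz z⁻¹, mul_inv_cancel, kf_one h1]

theorem Sc.ne_zero (h1 : lam 1 ≠ 0) {z : H} (hz : Sc lam z) : kf lam z ≠ 0 := by
  intro h
  have := hz.inv_mul h1
  rw [h, zero_mul] at this
  exact zero_ne_one this

theorem Sc.mul_right (hc : IsClassFunction H lam) {z : H} (hz : Sc lam z) (x : H) :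
    kf lam (x * z) = kf lam x * kf lam z := by
  rw [kf_comm hc, hz x, mul_comm]

/-- the centre of the character -/
def ZZ (lam : H → ℂ) (h1 : lam 1 ≠ 0) : Subgroup H where
  carrier := {z | Sc lam z}
  one_mem' := by
    intro x
    rw [one_mul, kf_one h1, one_mul]
  mul_mem' := by
    intro a b ha hb x
    rw [mul_assoc, ha (b * x), hb x, ha b, mul_assoc]
  inv_mem' := by
    intro a ha x
    have h2 := ha (a⁻¹ * x)
    rw [mul_inv_cancel_left] at h2
    rw [h2, ← mul_assoc, mul_comm (kf lam a⁻¹), Sc.inv_mul h1 ha, one_mul]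

theorem mem_ZZ {h1 : lam 1 ≠ 0} {z : H} : z ∈ ZZ lam h1 ↔ Sc lam z := Iff.rfl

theorem ZZ_normal (h1 : lam 1 ≠ 0) (hc : IsClassFunction H lam) : (ZZ lam h1).Normal := by
  refine ⟨fun z hz g x => ?_⟩
  have h2 : g * z * g⁻¹ * x = g * (z * (g⁻¹ * x * g)) * g⁻¹ := by group
  have h3 : g⁻¹ * x * g = g⁻¹ * x * (g⁻¹)⁻¹ := by group
  rw [h2, kf_conj hc, kf_conj hc, hz, h3, kf_conj hc]

end basic

/-- the scalar elements are those of maximal absolute value -/
theorem sc_of_norm [Finite H] {lam : H → ℂ} (hl : IsIrrCharacter H lam) {z : H} (h : ‖lam z‖ = ‖lam 1‖) :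
    Sc lam z := by
  obtain ⟨n, ρ, hρ, rfl⟩ := hl
  have h1 : ‖ρ.character z‖ = (Module.finrank ℂ (Fin n → ℂ) : ℝ) := by
    rw [h, Representation.char_one]
    simp
  obtain ⟨w, hw⟩ := (Characters.Values.norm_character_eq_iff ρ z).1 h1
  have h2 : ∀ x, ρ.character (z * x) = w * ρ.character x := by
    intro x
    rw [Representation.character, map_mul, hw]
    have : w • (LinearMap.id : (Fin n → ℂ) →ₗ[ℂ] (Fin n → ℂ)) * ρ x = w • ρ x := by
      ext v
      simp
    rw [this, map_smul]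
    rfl
  have h3 := h2 1
  rw [mul_one] at h3
  have h10 : ρ.character 1 ≠ 0 := isIrr_apply_one_ne_zero ⟨n, ρ, hρ, rfl⟩
  intro x
  unfold kf
  rw [h2 x, h3, mul_div_cancel_right₀ _ h10, mul_div_assoc]

theorem norm_of_sc [Finite H] {lam : H → ℂ} (h1 : lam 1 ≠ 0) {z : H} (hz : Sc lam z) : ‖lam z‖ = ‖lam 1‖ := by
  have h2 : ∀ n : ℕ, kf lam (z ^ n) = kf lam z ^ n := by
    intro n
    induction n with
    | zero => rw [pow_zero, pow_zero, kf_one h1]
    | succ n ih => rw [pow_succ', pow_succ', hz, ih]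
  have h3 := h2 (Nat.card H)
  rw [pow_card_eq_one', kf_one h1] at h3
  have h4 : ‖kf lam z‖ = 1 := Complex.norm_eq_one_of_pow_eq_one h3.symm Nat.card_pos.ne'
  unfold kf at h4
  rw [norm_div] at h4
  have h5 : ‖lam 1‖ ≠ 0 := norm_ne_zero_iff.2 h1
  rwa [div_eq_one_iff_eq h5] at h4

/-! ### The pairing -/

section pairing

variable {lam : H → ℂ}

theorem pair_mul_right (hc : IsClassFunction H lam) {a x y : H} (hx : Sc lam (a * x * a⁻¹ * x⁻¹)) :
    kf lam (a * (x * y) * a⁻¹ * (x * y)⁻¹) = kf lam (a * x * a⁻¹ * x⁻¹) * kf lam (a * y * a⁻¹ * y⁻¹) := by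
  rw [show a * (x * y) * a⁻¹ * (x * y)⁻¹ = (a * x * a⁻¹ * x⁻¹) * (x * (a * y * a⁻¹ * y⁻¹) * x⁻¹) by group,
    hx, kf_conj hc]

theorem pair_mul_left (hc : IsClassFunction H lam) {a b x : H} (hx : Sc lam (a * x * a⁻¹ * x⁻¹)) :
    kf lam (a * b * x * (a * b)⁻¹ * x⁻¹) = kf lam (a * x * a⁻¹ * x⁻¹) * kf lam (b * x * b⁻¹ * x⁻¹) := by
  rw [show a * b * x * (a * b)⁻¹ * x⁻¹ = (a * (b * x * b⁻¹ * x⁻¹) * a⁻¹) * (a * x * a⁻¹ * x⁻¹) by group,
    hx.mul_right hc, kf_conj hc, mul_comm]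

theorem pair_conj (hc : IsClassFunction H lam) (g a x : H) :
    kf lam (g * a * g⁻¹ * x * (g * a * g⁻¹)⁻¹ * x⁻¹) =
      kf lam (a * (g⁻¹ * x * g) * a⁻¹ * (g⁻¹ * x * g)⁻¹) := by
  rw [show g * a * g⁻¹ * x * (g * a * g⁻¹)⁻¹ * x⁻¹ =
    g * (a * (g⁻¹ * x * g) * a⁻¹ * (g⁻¹ * x * g)⁻¹) * g⁻¹ by group, kf_conj hc]

/-- the radical of the pairing on `E` -/
def Rad (lam : H → ℂ) (h1 : lam 1 ≠ 0) (hc : IsClassFunction H lam) (E : Subgroup H)
    (hE : ∀ a ∈ E, ∀ x ∈ E, Sc lam (a * x * a⁻¹ * x⁻¹)) : Subgroup H where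
  carrier := {a | a ∈ E ∧ ∀ x ∈ E, kf lam (a * x * a⁻¹ * x⁻¹) = 1}
  one_mem' := by
    refine ⟨E.one_mem, fun x _ => ?_⟩
    rw [show (1 : H) * x * 1⁻¹ * x⁻¹ = 1 by group, kf_one h1]
  mul_mem' := by
    rintro a b ⟨ha, ha'⟩ ⟨hb, hb'⟩
    refine ⟨E.mul_mem ha hb, fun x hx => ?_⟩
    rw [pair_mul_left hc (hE a ha x hx), ha' x hx, hb' x hx, one_mul]
  inv_mem' := by
    rintro a ⟨ha, ha'⟩
    refine ⟨E.inv_mem ha, fun x hx => ?_⟩
    have h2 := pair_mul_left (b := a⁻¹) hc (hE a ha x hx)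
    rw [ha' x hx, one_mul, mul_inv_cancel, show (1 : H) * x * 1⁻¹ * x⁻¹ = 1 by group, kf_one h1] at h2
    exact h2.symm

theorem mem_Rad {h1 : lam 1 ≠ 0} {hc : IsClassFunction H lam} {E : Subgroup H}
    {hE : ∀ a ∈ E, ∀ x ∈ E, Sc lam (a * x * a⁻¹ * x⁻¹)} {a : H} :
    a ∈ Rad lam h1 hc E hE ↔ a ∈ E ∧ ∀ x ∈ E, kf lam (a * x * a⁻¹ * x⁻¹) = 1 := Iff.rfl

theorem Rad_normal (h1 : lam 1 ≠ 0) (hc : IsClassFunction H lam) (E : Subgroup H) [hEn : E.Normal]
    (hE : ∀ a ∈ E, ∀ x ∈ E, Sc lam (a * x * a⁻¹ * x⁻¹)) : (Rad lam h1 hc E hE).Normal := by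
  refine ⟨fun a ha g => ?_⟩
  refine ⟨hEn.conj_mem a ha.1 g, fun x hx => ?_⟩
  rw [pair_conj hc]
  apply ha.2
  have := hEn.conj_mem x hx g⁻¹
  rwa [inv_inv] at this

end pairing

/-- the radical consists of scalars, because `lam` is homogeneous on it -/
theorem rad_le [Finite H] {lam : H → ℂ} (hl : IsIrrCharacter H lam) (hqp : QP lam) (h1 : lam 1 ≠ 0)
    (hc : IsClassFunction H lam) (E : Subgroup H) [hEn : E.Normal]
    (hE : ∀ a ∈ E, ∀ x ∈ E, Sc lam (a * x * a⁻¹ * x⁻¹)) : Rad lam h1 hc E hE ≤ ZZ lam h1 := by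
  set R := Rad lam h1 hc E hE with hR
  obtain ⟨θ, e, hθ, he⟩ := hqp R (Rad_normal h1 hc E hE)
  have he0 : (e : ℂ) ≠ 0 := by
    intro h
    apply h1
    have := he 1
    rw [h, zero_mul] at this
    exact this
  -- the kernel of `kf` on the scalars
  let K0 : Subgroup R :=
    { carrier := {z | Sc lam (z : H) ∧ kf lam (z : H) = 1}
      one_mem' := ⟨(ZZ lam h1).one_mem, by rw [Subgroup.coe_one, kf_one h1]⟩
      mul_mem' := by
        rintro a b ⟨ha, ha'⟩ ⟨hb, hb'⟩
        refine ⟨(ZZ lam h1).mul_mem ha hb, ?_⟩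
        rw [Subgroup.coe_mul, ha, ha', hb', one_mul]
      inv_mem' := by
        rintro a ⟨ha, ha'⟩
        refine ⟨(ZZ lam h1).inv_mem ha, ?_⟩
        have := ha.inv_mul h1
        rw [ha', one_mul] at this
        rw [Subgroup.coe_inv, this] }
  have hcomm : commutator R ≤ K0 := by
    rw [commutator_def, Subgroup.commutator_le]
    intro a _ x _
    have hx : ((x : R) : H) ∈ E := x.2.1
    have ha : ((a : R) : H) ∈ E := a.2.1
    refine ⟨?_, ?_⟩
    · have := hE _ ha _ hx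
      simpa [commutatorElement_def] using this
    · have := a.2.2 _ hx
      simpa [commutatorElement_def] using this
  have hker : ∀ y ∈ commutator R, θ y = θ 1 := by
    intro y hy
    obtain ⟨hy1, hy2⟩ := hcomm hy
    unfold kf at hy2
    rw [div_eq_one_iff_eq h1] at hy2
    have h3 := he y
    have h4 := he 1
    rw [Subgroup.coe_one] at h4
    rw [hy2, h4] at h3
    exact (mul_left_cancel₀ he0 h3).symm
  obtain ⟨f, hf⟩ := CliffGen.exists_hom_of_ker hθ hker
  intro x hx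
  apply sc_of_norm hl
  have h3 := he ⟨x, hx⟩
  have h4 := he 1
  rw [Subgroup.coe_one] at h4
  have h5 : ‖θ ⟨x, hx⟩‖ = 1 := by rw [hf]; exact Characters.Linear.norm_hom_apply f _
  have h6 : ‖θ 1‖ = 1 := by rw [hf]; exact Characters.Linear.norm_hom_apply f _
  change lam x = _ at h3
  rw [h3, h4, norm_mul, norm_mul, h5, h6]

theorem le_rad {lam : H → ℂ} (h1 : lam 1 ≠ 0)
    (hc : IsClassFunction H lam) (E : Subgroup H)
    (hE : ∀ a ∈ E, ∀ x ∈ E, Sc lam (a * x * a⁻¹ * x⁻¹)) (hZE : ZZ lam h1 ≤ E) :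
    ZZ lam h1 ≤ Rad lam h1 hc E hE := by
  intro z hz
  refine ⟨hZE hz, fun x _ => ?_⟩
  have hz' : Sc lam z := hz
  rw [show z * x * z⁻¹ * x⁻¹ = z * (x * z⁻¹ * x⁻¹) by group, hz', kf_conj hc, hz'.inv_mul h1]

/-- `lam` vanishes on `E` outside its centre -/
theorem vanish [Finite H] {lam : H → ℂ} (hl : IsIrrCharacter H lam) (hqp : QP lam) (h1 : lam 1 ≠ 0)
    (hc : IsClassFunction H lam) (E : Subgroup H) [hEn : E.Normal]
    (hE : ∀ a ∈ E, ∀ x ∈ E, Sc lam (a * x * a⁻¹ * x⁻¹)) {x : H} (hx : x ∈ E) (hxZ : x ∉ ZZ lam h1) :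
    lam x = 0 := by
  have h2 : x ∉ Rad lam h1 hc E hE := fun h => hxZ (rad_le hl hqp h1 hc E hE h)
  rw [mem_Rad, not_and] at h2
  have h3 := h2 hx
  push Not at h3
  obtain ⟨y, hy, hxy⟩ := h3
  have h4 := hE x hx y hy (y * x * y⁻¹)
  rw [show x * y * x⁻¹ * y⁻¹ * (y * x * y⁻¹) = x by group, kf_conj hc] at h4
  have h5 : kf lam x * (1 - kf lam (x * y * x⁻¹ * y⁻¹)) = 0 := by linear_combination h4
  rcases mul_eq_zero.1 h5 with h | h
  · unfold kf at h
    exact (div_eq_zero_iff.1 h).resolve_right h1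
  · exact absurd (by linear_combination -h) hxy

/-- `|E : Z| = ε(1)²` -/
theorem card_sq [Finite H] {lam : H → ℂ} (hl : IsIrrCharacter H lam) (hqp : QP lam) (h1 : lam 1 ≠ 0)
    (hc : IsClassFunction H lam) (E : Subgroup H) [hEn : E.Normal]
    (hE : ∀ a ∈ E, ∀ x ∈ E, Sc lam (a * x * a⁻¹ * x⁻¹)) (hZE : ZZ lam h1 ≤ E) {b : ℕ} (hb : lam 1 = b) :
    ∃ d : ℕ, d ∣ b ∧ Nat.card E = Nat.card (ZZ lam h1) * d ^ 2 := by
  classical
  obtain ⟨ε, e, hε, he⟩ := hqp E hEn
  obtain ⟨d, hd0, hd⟩ := isIrr_apply_one hε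
  have he1 := he 1
  rw [Subgroup.coe_one, hb, hd] at he1
  have hbd : b = e * d := by exact_mod_cast he1
  refine ⟨d, ⟨e, by rw [hbd, mul_comm]⟩, ?_⟩
  have he0 : e ≠ 0 := by
    rintro rfl
    apply h1
    rw [hb, hbd]
    simp
  have : Fintype E := Fintype.ofFinite _
  have : Fintype H := Fintype.ofFinite _
  have : Fintype (ZZ lam h1) := Fintype.ofFinite _
  have h2 := classInner_irr_self hε
  rw [classInner_def] at h2
  have h3 : (∑ x : E, ε x * conj (ε x)) = (Nat.card E : ℂ) := by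
    have h4 : (Nat.card E : ℂ) ≠ 0 := card_ne_zero_complex
    rw [inv_mul_eq_one₀ h4] at h2
    exact h2.symm
  have h4 : ∑ x : E, lam x * conj (lam x) = (e : ℂ) ^ 2 * (Nat.card E : ℂ) := by
    rw [← h3, Finset.mul_sum]
    refine Finset.sum_congr rfl fun x _ => ?_
    rw [he x, map_mul, Complex.conj_natCast]
    ring
  have h5 : ∑ x : E, lam x * conj (lam x) = (Nat.card (ZZ lam h1) : ℂ) * (b : ℂ) ^ 2 := by
    have h6 : ∀ x : E, lam x * conj (lam x) = if (x : H) ∈ ZZ lam h1 then (b : ℂ) ^ 2 else 0 := by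
      intro x
      split_ifs with hx
      · have h7 := norm_of_sc h1 (mem_ZZ.1 hx)
        rw [Complex.mul_conj, Complex.normSq_eq_norm_sq, h7, hb]
        simp
      · rw [vanish hl hqp h1 hc E hE x.2 hx, zero_mul]
    rw [Finset.sum_congr rfl fun x _ => h6 x, ← Finset.sum_filter, Finset.sum_const, nsmul_eq_mul]
    congr 2
    rw [Nat.card_eq_fintype_card, Fintype.card_subtype]
    refine Finset.card_bij (fun x _ => (x : H)) ?_ ?_ ?_
    · intro x hx
      simpa using hx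
    · intro x _ y _ hxy
      exact Subtype.ext hxy
    · intro x hx
      exact ⟨⟨x, hZE (by simpa using hx)⟩, by simpa using hx, rfl⟩
  rw [h4, hbd] at h5
  have h6 : e ^ 2 * Nat.card E = Nat.card (ZZ lam h1) * (e * d) ^ 2 := by exact_mod_cast h5
  have h7 : e ^ 2 * Nat.card E = e ^ 2 * (Nat.card (ZZ lam h1) * d ^ 2) := by rw [h6]; ring
  exact Nat.eq_of_mul_eq_mul_left (by positivity) h7

/-! ### Stabilizers -/

section stab

variable {lam : H → ℂ}

/-- a subgroup `T` whose elements commute with `e` modulo scalars: the linear character `g ↦ k [e, g]` -/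
noncomputable def beta (h1 : lam 1 ≠ 0) (hc : IsClassFunction H lam) (T : Subgroup H) (e : H)
    (hT : ∀ g ∈ T, Sc lam (e * g * e⁻¹ * g⁻¹)) : T →* ℂˣ :=
  MonoidHom.toHomUnits
    { toFun := fun g => kf lam (e * g * e⁻¹ * (g : H)⁻¹)
      map_one' := by
        rw [Subgroup.coe_one, show e * 1 * e⁻¹ * (1 : H)⁻¹ = 1 by group, kf_one h1]
      map_mul' := by
        intro g h
        rw [Subgroup.coe_mul, pair_mul_right hc (hT g g.2)] }

theorem beta_apply (h1 : lam 1 ≠ 0) (hc : IsClassFunction H lam) (T : Subgroup H) (e : H)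
    (hT : ∀ g ∈ T, Sc lam (e * g * e⁻¹ * g⁻¹)) (g : T) :
    (beta h1 hc T e hT g : ℂ) = kf lam (e * g * e⁻¹ * (g : H)⁻¹) := rfl

theorem index_mem [Finite H] (hl : IsIrrCharacter H lam) (hqp : QP lam) (h1 : lam 1 ≠ 0)
    (hc : IsClassFunction H lam) (E : Subgroup H) [hEn : E.Normal]
    (hE : ∀ a ∈ E, ∀ x ∈ E, Sc lam (a * x * a⁻¹ * x⁻¹)) (hZE : ZZ lam h1 ≤ E) (e : H) (he : e ∈ E)
    (T : Subgroup H) (hT : ∀ g, g ∈ T ↔ Sc lam (e * g * e⁻¹ * g⁻¹)) : T.index ∈ charDegrees H := by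
  classical
  have : Fintype E := Fintype.ofFinite _
  have : Fintype H := Fintype.ofFinite _
  have : Fintype T := Fintype.ofFinite _
  have hET : E ≤ T := fun x hx => (hT x).2 (hE e he x hx)
  have hirr := Characters.Linear.isIrrCharacter_hom (beta h1 hc T e fun g hg => (hT g).1 hg)
  have hirr' := Characters.Linear.isIrrCharacter_hom (beta h1 hc E e fun g hg => hE e he g hg)
  have hin : ∀ g : H, g ∈ T ↔ conjFn E (fun x => (beta h1 hc E e (fun g hg => hE e he g hg) x : ℂ)) g =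
      (fun x => (beta h1 hc E e (fun g hg => hE e he g hg) x : ℂ)) := by
    intro g
    have h2 : g ∈ T ↔ g⁻¹ * e * g * e⁻¹ ∈ ZZ lam h1 := by
      rw [hT, ← mem_ZZ (h1 := h1)]
      have hn := ZZ_normal h1 hc
      constructor
      · intro h
        have := hn.conj_mem _ h g⁻¹
        convert this using 1
        group
      · intro h
        have := hn.conj_mem _ h g
        convert this using 1
        group
    have h3 : ZZ lam h1 = Rad lam h1 hc E hE :=
      le_antisymm (le_rad h1 hc E hE hZE) (rad_le hl hqp h1 hc E hE)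
    have hge : g⁻¹ * e * g ∈ E := by
      have := hEn.conj_mem e he g⁻¹
      rwa [inv_inv] at this
    rw [h2, h3, mem_Rad, funext_iff]
    have h4 : ∀ x ∈ E, kf lam (g⁻¹ * e * g * e⁻¹ * x * (g⁻¹ * e * g * e⁻¹)⁻¹ * x⁻¹) *
        kf lam (e * x * e⁻¹ * x⁻¹) = kf lam (g⁻¹ * e * g * x * (g⁻¹ * e * g)⁻¹ * x⁻¹) := by
      intro x hx
      have h5 := pair_mul_left (b := e) hc (hE (g⁻¹ * e * g * e⁻¹) (E.mul_mem hge (E.inv_mem he)) x hx)
      rw [← h5, inv_mul_cancel_right]
    have h6 : ∀ x : E, conjFn E (fun x => (beta h1 hc E e (fun g hg => hE e he g hg) x : ℂ)) g x =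
        kf lam (g⁻¹ * e * g * x * (g⁻¹ * e * g)⁻¹ * (x : H)⁻¹) := by
      intro x
      rw [conjFn_apply, beta_apply]
      have := kf_conj hc g (g⁻¹ * e * g * x * (g⁻¹ * e * g)⁻¹ * (x : H)⁻¹)
      rw [← this]
      congr 1
      simp only
      group
    constructor
    · rintro ⟨-, h⟩ x
      rw [h6, beta_apply, ← h4 x x.2, h x x.2, one_mul]
    · intro h
      refine ⟨E.mul_mem hge (E.inv_mem he), fun x hx => ?_⟩
      have h7 := h ⟨x, hx⟩
      rw [h6, beta_apply] at h7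
      have h8 := h4 x hx
      simp only at h7
      rw [h7] at h8
      exact mul_right_cancel₀ ((hE e he x hx).ne_zero h1) (h8.trans (one_mul _).symm)
  have h2 := CliffGen.irr_ind hirr' hin hET hirr (by
    have : CliffGen.resTo hET (fun g => (beta h1 hc T e (fun g hg => (hT g).1 hg) g : ℂ)) =
        (fun x => (beta h1 hc E e (fun g hg => hE e he g hg) x : ℂ)) := by
      funext x
      rfl
    rw [this, classInner_irr_self hirr']
    exact one_ne_zero)
  refine H424.DegTools.mem_charDegrees.2 ⟨_, h2, ?_⟩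
  rw [indFun_apply_one, map_one, Units.val_one, mul_one]

end stab

/-! ### The main theorem -/

/-- a minimal normal subgroup -/
theorem exists_min (Q : Type u) [Group Q] [Finite Q] [Nontrivial Q] : ∃ S : Subgroup Q, S.Normal ∧ S ≠ ⊥ ∧
    ∀ K : Subgroup Q, K.Normal → K ≤ S → K = ⊥ ∨ K = S := by
  classical
  have hex : ∃ n, ∃ S : Subgroup Q, S.Normal ∧ S ≠ ⊥ ∧ Nat.card S = n :=
    ⟨_, ⊤, inferInstance, top_ne_bot, rfl⟩
  obtain ⟨S, hS, hSb, hSn⟩ := Nat.find_spec hex
  refine ⟨S, hS, hSb, fun K hK hKS => ?_⟩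
  by_cases hKb : K = ⊥
  · exact Or.inl hKb
  · right
    apply Subgroup.eq_of_le_of_card_ge hKS
    rw [hSn]
    exact Nat.find_min' hex ⟨K, hK, hKb, rfl⟩

theorem card_comap_mk (Z : Subgroup H) [Z.Normal] (S : Subgroup (H ⧸ Z)) :
    Nat.card (S.comap (QuotientGroup.mk' Z)) = Nat.card Z * Nat.card S := by
  have h1 : Z ≤ S.comap (QuotientGroup.mk' Z) := by
    intro z hz
    rw [Subgroup.mem_comap, QuotientGroup.mk'_apply, (QuotientGroup.eq_one_iff z).2 hz]
    exact S.one_mem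
  have h2 := Subgroup.card_mul_index (Z.subgroupOf (S.comap (QuotientGroup.mk' Z)))
  rw [← h2, Nat.card_congr (Subgroup.subgroupOfEquivOfLe h1).toEquiv]
  congr 1
  have h3 : (S.comap (QuotientGroup.mk' Z)).map (QuotientGroup.mk' Z) = S :=
    Subgroup.map_comap_eq_self_of_surjective (QuotientGroup.mk'_surjective Z) S
  have h4 := Subgroup.relIndex_ker (S.comap (QuotientGroup.mk' Z)) (QuotientGroup.mk' Z)
  rw [QuotientGroup.ker_mk', h3] at h4
  exact h4

/-- the conjugation action on a normal subgroup of a quotient -/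
noncomputable def actHom (Z : Subgroup H) [Z.Normal] (S : Subgroup (H ⧸ Z)) [S.Normal] : H →* MulAut S :=
  (MulAut.conjNormal : (H ⧸ Z) →* MulAut S).comp (QuotientGroup.mk' Z)

theorem actHom_apply (Z : Subgroup H) [Z.Normal] (S : Subgroup (H ⧸ Z)) [S.Normal] (g : H) (v : S) :
    ((actHom Z S g v : S) : H ⧸ Z) = (g : H ⧸ Z) * v * (g : H ⧸ Z)⁻¹ := rfl

theorem b3_section [Finite H] [Group.IsSolvable H] {lam : H → ℂ} (hl : IsIrrCharacter H lam)
    (hqp : QP lam) {b : ℕ} (hb : lam 1 = b) (hb1 : b ≠ 1) :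
    ∃ (s c : ℕ) (V : Type u) (_ : CommGroup V) (_ : Finite V) (_ : MulDistribMulAction H V), s.Prime ∧ 1 ≤ c ∧
      Nat.card V = s ^ (2 * c) ∧ s ^ c ∣ b ∧
      (∀ W : Subgroup V, (∀ h : H, ∀ w ∈ W, h • w ∈ W) → W = ⊥ ∨ W = ⊤) ∧
      ∀ v : V, v ≠ 1 → (MulAction.stabilizer H v).index ≠ 1 ∧ (MulAction.stabilizer H v).index ∈ charDegrees H := by
  classical
  have h1 : lam 1 ≠ 0 := isIrr_apply_one_ne_zero hl
  have hc : IsClassFunction H lam := isIrr_isClassFunction hl
  have hZn : (ZZ lam h1).Normal := ZZ_normal h1 hc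
  set Z := ZZ lam h1 with hZdef
  -- `Z` is proper
  have hZtop : Z ≠ ⊤ := by
    intro h
    apply hb1
    have : Fintype H := Fintype.ofFinite _
    have h2 := classInner_irr_self hl
    rw [classInner_def] at h2
    have h4 : (Nat.card H : ℂ) ≠ 0 := card_ne_zero_complex
    rw [inv_mul_eq_one₀ h4] at h2
    have h6 : ∀ x : H, lam x * conj (lam x) = (b : ℂ) ^ 2 := by
      intro x
      have hx : x ∈ Z := by rw [h]; exact Subgroup.mem_top x
      have h7 := norm_of_sc h1 (mem_ZZ.1 hx)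
      rw [Complex.mul_conj, Complex.normSq_eq_norm_sq, h7, hb]
      simp
    rw [Finset.sum_congr rfl fun x _ => h6 x, Finset.sum_const, Finset.card_univ, nsmul_eq_mul,
      ← Nat.card_eq_fintype_card] at h2
    have h8 : (b : ℂ) ^ 2 = 1 := mul_left_cancel₀ h4 (by rw [← h2, mul_one])
    have h9 : b ^ 2 = 1 := by exact_mod_cast h8
    simpa using h9
  have hnt : Nontrivial (H ⧸ Z) := QuotientGroup.nontrivial_iff.2 hZtop
  obtain ⟨S, hSn, hSb, hmin⟩ := exists_min (H ⧸ Z)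
  have hSc := SolvableStructure.MinimalNormal.comm_of_minimal_normal S hSb hmin
  obtain ⟨s, m, hs, hm, hcard, hexp⟩ :=
    SolvableStructure.MinimalNormal.exists_prime_of_minimal_normal S hSb hmin
  set E := S.comap (QuotientGroup.mk' Z) with hEdef
  have hEn : E.Normal := inferInstance
  have hE : ∀ a ∈ E, ∀ x ∈ E, Sc lam (a * x * a⁻¹ * x⁻¹) := by
    intro a ha x hx
    rw [← mem_ZZ (h1 := h1), ← QuotientGroup.eq_one_iff]
    have h2 := hSc _ ha _ hx
    simp only [QuotientGroup.mk'_apply] at h2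
    rw [QuotientGroup.mk_mul, QuotientGroup.mk_mul, QuotientGroup.mk_mul, QuotientGroup.mk_inv,
      QuotientGroup.mk_inv, h2, mul_inv_cancel_right, mul_inv_cancel]
  have hZE : Z ≤ E := by
    intro z hz
    rw [hEdef, Subgroup.mem_comap, QuotientGroup.mk'_apply, (QuotientGroup.eq_one_iff z).2 hz]
    exact S.one_mem
  obtain ⟨d, hdb, hd⟩ := card_sq hl hqp h1 hc E hE hZE hb
  have hSd : Nat.card S = d ^ 2 := by
    rw [hEdef, card_comap_mk] at hd
    exact Nat.eq_of_mul_eq_mul_left Nat.card_pos hd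
  obtain ⟨c, -, hdc⟩ := (Nat.dvd_prime_pow hs).1 (show d ∣ s ^ m by
    rw [← hcard, hSd]; exact dvd_pow_self d two_ne_zero)
  have hmc : m = 2 * c := by
    rw [hcard, hdc, ← pow_mul] at hSd
    rw [mul_comm]
    exact Nat.pow_right_injective hs.two_le hSd
  have hc1 : 1 ≤ c := by omega
  let iC : CommGroup S :=
    { (inferInstance : Group S) with
      mul_comm := fun a x => Subtype.ext (hSc a a.2 x x.2) }
  let iA : MulDistribMulAction H S := MulDistribMulAction.compHom S (actHom Z S)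
  have hsm : ∀ (g : H) (v : S), g • v = actHom Z S g v := fun g v => rfl
  refine ⟨s, c, S, iC, inferInstance, iA, hs, hc1, ?_, ?_, ?_, ?_⟩
  · rw [hcard, hmc]
  · rw [← hdc]
    exact hdb
  · intro W hW
    have hKn : (W.map S.subtype).Normal := by
      refine ⟨?_⟩
      rintro _ ⟨w, hw, rfl⟩ g
      obtain ⟨g, rfl⟩ := QuotientGroup.mk_surjective g
      exact ⟨g • w, hW g w hw, rfl⟩
    have hKS : W.map S.subtype ≤ S := by
      rintro _ ⟨w, hw, rfl⟩
      exact w.2
    rcases hmin _ hKn hKS with h | h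
    · left
      rw [Subgroup.eq_bot_iff_forall]
      intro w hw
      have : (w : H ⧸ Z) ∈ W.map S.subtype := ⟨w, hw, rfl⟩
      rw [h, Subgroup.mem_bot] at this
      exact Subtype.ext this
    · right
      rw [Subgroup.eq_top_iff']
      intro w
      have : (w : H ⧸ Z) ∈ W.map S.subtype := by rw [h]; exact w.2
      obtain ⟨w', hw', hww⟩ := this
      have : w' = w := Subtype.ext hww
      rw [← this]
      exact hw'
  · intro v hv
    obtain ⟨e, he⟩ := QuotientGroup.mk_surjective (v : H ⧸ Z)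
    have heE : e ∈ E := by
      rw [hEdef, Subgroup.mem_comap, QuotientGroup.mk'_apply, he]
      exact v.2
    have hT : ∀ g, g ∈ MulAction.stabilizer H v ↔ Sc lam (e * g * e⁻¹ * g⁻¹) := by
      intro g
      rw [MulAction.mem_stabilizer_iff, ← mem_ZZ (h1 := h1), ← QuotientGroup.eq_one_iff, QuotientGroup.mk_mul,
        QuotientGroup.mk_mul, QuotientGroup.mk_mul, QuotientGroup.mk_inv, QuotientGroup.mk_inv, he, hsm]
      have h2 : actHom Z S g v = v ↔ (g : H ⧸ Z) * v * (g : H ⧸ Z)⁻¹ = v := by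
        rw [← actHom_apply]
        exact Subtype.ext_iff
      rw [h2]
      constructor
      · intro h
        rw [← mul_inv_eq_iff_eq_mul.1 h, mul_inv_cancel_right, mul_inv_cancel]
      · intro h
        exact mul_inv_eq_iff_eq_mul.2 (mul_inv_eq_iff_eq_mul.1 (mul_inv_eq_one.1 h)).symm
    refine ⟨?_, index_mem hl hqp h1 hc E hE hZE e heE _ hT⟩
    intro hi
    rw [Subgroup.index_eq_one] at hi
    have hfix : ∀ g : H, g • v = v := fun g => by
      rw [← MulAction.mem_stabilizer_iff, hi]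
      exact Subgroup.mem_top g
    have hK : (Subgroup.zpowers (v : H ⧸ Z)).Normal := by
      refine ⟨?_⟩
      rintro _ ⟨k, rfl⟩ g
      obtain ⟨g, rfl⟩ := QuotientGroup.mk_surjective g
      have h2 : (g : H ⧸ Z) * v * (g : H ⧸ Z)⁻¹ = v := congrArg Subtype.val (hfix g)
      refine ⟨k, ?_⟩
      simp only
      rw [← conj_zpow, h2]
    have hKS : Subgroup.zpowers (v : H ⧸ Z) ≤ S := by
      rw [Subgroup.zpowers_le]
      exact v.2
    rcases hmin _ hK hKS with h | h
    · rw [Subgroup.zpowers_eq_bot] at h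
      exact hv (Subtype.ext h)
    · have h2 : Nat.card S = orderOf (v : H ⧸ Z) := by
        rw [← Nat.card_zpowers, h]
      have h3 : orderOf (v : H ⧸ Z) ∣ s := orderOf_dvd_of_pow_eq_one (hexp v v.2)
      rw [← h2, hcard, hmc] at h3
      have h4 := Nat.le_of_dvd hs.pos h3
      have h5 : s ^ 2 ≤ s ^ (2 * c) := Nat.pow_le_pow_right hs.pos (by omega)
      have h6 := hs.two_le
      nlinarith

end Cfsg.Agent.H131.AN
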